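import Cfsg.Prelude.Def_Blocks
import Cfsg.Agent.Characters.Core
import Mathlib.GroupTheory.PGroup
import Cfsg.Agent.FastGrp
import Cfsg.Agent.Prune
set_option linter.all false

section
prune_inst 0x7f00000000000000000000000000000000000000000000000000000000000000000000000000000000000000000000000000000000000000000000000000000000000000000000000000000000000000003fffffffffffffffffffffffffffbeffbdffffffff

-- part: H601/OddDeg/Defs
section
set_option linter.all false
open scoped Cfsg.Agent.FastGrp

/-!
# Odd degree characters of simple groups (S4948, helper601): definitions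

* `TwoC S` : some `2`-subgroup of `S` has a `2`-group as its centralizer;
* `ThreeInv S` : there are three real-valued irreducible characters of odd degree, each invariant under `Aut S`;
* `TwoC.of_cover` : `TwoC` for a central quotient from a `2`-subgroup `D` of the covering group such that every
  element of `C(D)` is a `2`-element modulo the kernel.
-/

set_option autoImplicit false

namespace Cfsg.Agent.H601.OddDeg

open Cfsg Subgroup

/-- Some `2`-subgroup `D` of `S` has a `2`-group as its centralizer. -/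
def TwoC (S : Type*) [Group S] : Prop :=
  ∃ D : Subgroup S, IsPGroup 2 D ∧ IsPGroup 2 (centralizer (D : Set S))

/-- A real-valued irreducible character of odd degree, invariant under all automorphisms. -/
def Inv {S : Type*} [Group S] (χ : S → ℂ) : Prop :=
  IsIrrCharacter S χ ∧ (∀ x, (χ x).im = 0) ∧ ¬ 2 ∣ charDegree χ ∧ ∀ φ : S ≃* S, ∀ x, χ (φ x) = χ x

/-- Three different real-valued irreducible characters of odd degree, invariant under all automorphisms. -/
def ThreeInv (S : Type*) [Group S] : Prop :=
  ∃ χ₁ χ₂ χ₃ : S → ℂ, Inv χ₁ ∧ Inv χ₂ ∧ Inv χ₃ ∧ χ₁ ≠ χ₂ ∧ χ₁ ≠ χ₃ ∧ χ₂ ≠ χ₃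

theorem TwoC.congr {S T : Type*} [Group S] [Group T] (e : S ≃* T) (h : TwoC S) : TwoC T := by
  obtain ⟨D, h1, h2⟩ := h
  refine ⟨D.map e.toMonoidHom, h1.map _, ?_⟩
  have h3 : centralizer ((D.map e.toMonoidHom : Subgroup T) : Set T) =
      (centralizer (D : Set S)).map e.toMonoidHom := by
    ext x
    rw [mem_centralizer_iff, mem_map]
    constructor
    · intro hx
      refine ⟨e.symm x, mem_centralizer_iff.2 fun d hd => ?_, by simp⟩
      have := hx (e d) ⟨d, hd, rfl⟩
      apply e.injective
      simpa using this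
    · rintro ⟨y, hy, rfl⟩ _ ⟨d, hd, rfl⟩
      have := mem_centralizer_iff.1 hy d hd
      simpa using congrArg e this
  rw [h3]
  exact h2.map _

theorem TwoC.of_nonempty {S T : Type*} [Group S] [Group T] (h : TwoC T) (e : Nonempty (S ≃* T)) : TwoC S := by
  obtain ⟨e⟩ := e
  exact h.congr e.symm

/-- It suffices to find a `2`-subgroup centralized by no nontrivial element of odd order. -/
theorem TwoC.of_odd {S : Type*} [Group S] [Finite S] (D : Subgroup S) (h1 : IsPGroup 2 D)
    (h2 : ∀ x : S, Odd (orderOf x) → (∀ d ∈ D, d * x = x * d) → x = 1) : TwoC S := by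
  refine ⟨D, h1, ?_⟩
  intro g
  -- the odd part of `g` is trivial
  have hpos : orderOf (g : S) ≠ 0 := (orderOf_pos (g : S)).ne'
  obtain ⟨k, m, hm, hkm⟩ := Nat.exists_eq_two_pow_mul_odd hpos
  refine ⟨k, ?_⟩
  have h3 : ((g : S) ^ 2 ^ k) = 1 := by
    apply h2
    · rw [orderOf_pow, hkm, Nat.gcd_eq_right (Dvd.intro m rfl), Nat.mul_div_cancel_left _ (by positivity)]
      exact hm
    · intro d hd
      have h4 : Commute d (g : S) := mem_centralizer_iff.1 g.2 d hd
      exact (h4.pow_right _).eq
  exact Subtype.ext (by simpa using h3)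

/-- `TwoC` for a central quotient: `D` is a `2`-subgroup of the covering group `G` such that the elements of `C_G(D)`
are `2`-elements modulo the kernel. -/
theorem TwoC.of_cover {G S : Type*} [Group G] [Group S] [Finite G] (f : G →* S) (hf : Function.Surjective f)
    (hk : f.ker ≤ center G) (D : Subgroup G) (hD : IsPGroup 2 D)
    (hc : ∀ g : G, (∀ d ∈ D, d * g = g * d) → ∃ k, g ^ 2 ^ k ∈ f.ker) : TwoC S := by
  refine ⟨D.map f, hD.map f, ?_⟩
  obtain ⟨m, hm⟩ : ∃ m : ℕ, ∀ d ∈ D, d ^ 2 ^ m = 1 := by
    obtain ⟨m, hm⟩ := IsPGroup.iff_card.1 hD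
    refine ⟨m, fun d hd => ?_⟩
    have h1 : (⟨d, hd⟩ : D) ^ 2 ^ m = 1 := by rw [← hm]; exact pow_card_eq_one'
    simpa using congrArg Subtype.val h1
  rintro ⟨x, hx⟩
  obtain ⟨g, rfl⟩ := hf x
  -- `[g, d]` is central
  have hcom : ∀ d ∈ D, ∃ z ∈ center G, g * d = z * (d * g) := by
    intro d hd
    refine ⟨g * d * g⁻¹ * d⁻¹, hk ?_, by group⟩
    rw [MonoidHom.mem_ker]
    have h1 := mem_centralizer_iff.1 hx (f d) (mem_map_of_mem f hd)
    simp only [map_mul, map_inv]
    rw [← h1]
    group
  have hpow : ∀ d ∈ D, d * g ^ 2 ^ m = g ^ 2 ^ m * d := by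
    intro d hd
    obtain ⟨z, hz, h1⟩ := hcom d hd
    have hzc : ∀ y : G, z * y = y * z := fun y => (mem_center_iff.1 hz y).symm
    have hc1 : Commute z d := hzc d
    -- `g d g⁻¹ = z d`
    have h2 : g * d * g⁻¹ = z * d := by rw [h1]; group
    have h3 : ∀ n : ℕ, g ^ n * d * (g ^ n)⁻¹ = z ^ n * d := by
      intro n
      induction n with
      | zero => simp
      | succ n ih =>
        have : g ^ (n + 1) * d * (g ^ (n + 1))⁻¹ = g * (g ^ n * d * (g ^ n)⁻¹) * g⁻¹ := by
          rw [pow_succ' g n]; group
        rw [this, ih]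
        have : g * (z ^ n * d) * g⁻¹ = z ^ n * (g * d * g⁻¹) := by
          have h5 : g * z ^ n = z ^ n * g := by
            have h6 : Commute z g := hzc g
            exact ((h6.pow_left n).eq).symm
          rw [← mul_assoc g, h5]; group
        rw [this, h2, pow_succ]
        group
    have h4 : z ^ 2 ^ m = 1 := by
      have h5 : (g * d * g⁻¹) ^ 2 ^ m = 1 := by
        rw [conj_pow, hm d hd]; group
      rw [h2, hc1.mul_pow, hm d hd, mul_one] at h5
      exact h5
    have h6 := h3 (2 ^ m)
    rw [h4, one_mul] at h6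
    calc d * g ^ 2 ^ m = (g ^ 2 ^ m * d * (g ^ 2 ^ m)⁻¹) * g ^ 2 ^ m := by rw [h6]
      _ = g ^ 2 ^ m * d := by group
  obtain ⟨k, hk'⟩ := hc _ hpow
  refine ⟨m + k, ?_⟩
  apply Subtype.ext
  rw [← pow_mul, ← pow_add, MonoidHom.mem_ker, map_pow] at hk'
  rw [SubmonoidClass.coe_pow]
  exact hk'

section Inv

variable {S T : Type*} [Group S] [Group T]

theorem Inv.congr (e : S ≃* T) {χ : S → ℂ} (h : Inv χ) : Inv (fun x : T => χ (e.symm x)) := by
  obtain ⟨h1, h2, h3, h4⟩ := h
  refine ⟨?_, fun x => h2 _, ?_, fun φ x => ?_⟩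
  · exact Characters.Core.isIrr_comp e.symm.toMonoidHom e.symm.surjective h1
  · simpa [charDegree] using h3
  · have := h4 ((e.trans φ).trans e.symm) (e.symm x)
    simpa using this

theorem ThreeInv.congr (e : S ≃* T) (h : ThreeInv S) : ThreeInv T := by
  obtain ⟨a, b, c, ha, hb, hc, h1, h2, h3⟩ := h
  have hi : ∀ {f g : S → ℂ}, f ≠ g → (fun x : T => f (e.symm x)) ≠ fun x : T => g (e.symm x) := by
    intro f g hfg h
    apply hfg
    ext x
    simpa using congrFun h (e x)
  exact ⟨_, _, _, ha.congr e, hb.congr e, hc.congr e, hi h1, hi h2, hi h3⟩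

theorem ThreeInv.of_nonempty (h : ThreeInv T) (e : Nonempty (S ≃* T)) : ThreeInv S := by
  obtain ⟨e⟩ := e
  exact h.congr e.symm

end Inv

end Cfsg.Agent.H601.OddDeg

private theorem dce_4e92befa2539 : _root_.True := by
  try have : _root_.True := by simp only [_root_.Cfsg.charDegree.eq_1]
  exact _root_.True.intro
end

-- part: H307/FourOdd/Defs
section
set_option linter.all false

/-!
# TEAM FOUR (S4947): groups with exactly four irreducible characters of odd degree.  Definitions

* `K0 G` : the number of irreducible characters of odd degree;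
* `K0t G τ` : the number of those which are fixed by the automorphism `τ`;
* `Syl4 G` : `|P : P'| = 4` for the Sylow `2`-subgroups;
* the rows for a simple group `S`: `RowA S`, `RowB S`, and their strong forms `Row5 S`, `Row3 S`.
-/

set_option autoImplicit false

namespace Cfsg.Agent.H307.FourOdd

open Cfsg Subgroup

universe u v

/-- The number of irreducible characters of odd degree. -/
noncomputable def K0 (G : Type u) [Group G] : ℕ :=
  Nat.card {χ : IrrCharacter G // ¬ 2 ∣ charDegree (χ : G → ℂ)}

/-- The commutator subgroup of a Sylow `2`-subgroup has index four in it. -/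
def Syl4 (G : Type u) [Group G] : Prop := ∀ P : Sylow 2 G, (commutator ↥P).index = 4

/-- **Row A** -/
def RowA (S : Type u) [Group S] : Prop := 5 ≤ K0 S ∨ Syl4 S

end Cfsg.Agent.H307.FourOdd
end
end
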